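import Cfsg.Agent.Lib.StdForm.FpfThree

/-!
A finite 2-group with a fixed-point-free automorphism of order three has class at most two (Neumann):
every element commutes with its conjugates, and 2-Engel 2-groups have class at most two.
-/

set_option autoImplicit false

open scoped commutatorElement

namespace CfsgLib.TwoFusion.RankTwo

universe v

/-- Every element commutes with all its conjugates. -/
theorem commute_conj {T : Type*} [Group T] [Finite T] {ρ : MulAut T}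
    (h3 : ∀ y, ρ (ρ (ρ y)) = y) (hfp : ∀ y, ρ y = y → y = 1) (x g : T) :
    Commute x (g * x * g⁻¹) := by
  have key : ∀ σ : MulAut T, (∀ y, σ (σ (σ y)) = y) → (∀ y, σ y = y → y = 1) →
      ∀ y k : T, Commute y (k * σ y * k⁻¹) := by
    intro σ hσ hσf y k
    obtain ⟨h, hh⟩ :=
      (MonoidHom.FixedPointFree.commutatorMap_surjective (φ := σ) (fun t ht => hσf t ht)) k
    simp only [MonoidHom.commutatorMap_apply, div_eq_mul_inv] at hh
    set τ : MulAut T := MulAut.conj h * σ * (MulAut.conj h)⁻¹ with hτ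
    have happ : ∀ t, τ t = h * σ (h⁻¹ * t * h) * h⁻¹ := fun t => by simp [hτ]
    have h1 := CfsgLib.StdForm.fpf_commute (ρ := τ)
      (fun t => by rw [happ, happ, happ]; simp [hσ, mul_assoc]) (fun t ht => by
        rw [happ] at ht
        have h2 : σ (h⁻¹ * t * h) = h⁻¹ * t * h := by
          calc σ (h⁻¹ * t * h) = h⁻¹ * (h * σ (h⁻¹ * t * h) * h⁻¹) * h := by group
            _ = h⁻¹ * t * h := by rw [ht]
        calc t = h * (h⁻¹ * t * h) * h⁻¹ := by group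
          _ = 1 := by rw [hσf _ h2]; group) y
    have h4 : τ y = k * σ y * k⁻¹ := by
      rw [happ, ← hh, map_mul, map_mul, map_inv]
      group
    rw [← h4]
    exact h1
  have h1 := key ρ h3 hfp x g
  have h2 := key (ρ.trans ρ) (fun y => by simp [h3]) (fun y hy => by
    have := congrArg ρ hy
    simp only [MulEquiv.trans_apply, h3] at this
    exact hfp y this.symm) x g
  simp only [MulEquiv.trans_apply] at h2
  have hp := CfsgLib.StdForm.fpf_prod_eq_one h3 hfp x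
  rw [mul_assoc] at hp
  have hinv : x⁻¹ = ρ x * ρ (ρ x) := inv_eq_of_mul_eq_one_right hp
  have h5 : Commute x ((g * x * g⁻¹)⁻¹) := by
    have he : (g * x * g⁻¹)⁻¹ = (g * ρ x * g⁻¹) * (g * ρ (ρ x) * g⁻¹) := by
      calc (g * x * g⁻¹)⁻¹ = g * x⁻¹ * g⁻¹ := by group
        _ = _ := by rw [hinv]; group
    rw [he]
    exact h1.mul_right h2
  simpa using h5.inv_right

/-- A finite 2-group all of whose elements commute with their conjugates has class at most two. -/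
theorem class_two_of_commute_conj : ∀ (n : ℕ) (T : Type v) [Group T] [Finite T],
    Nat.card T = n → IsPGroup 2 T → (∀ x g : T, Commute x (g * x * g⁻¹)) →
      ∀ a b c : T, ⁅⁅a, b⁆, c⁆ = 1 := by
  intro n
  induction n using Nat.strong_induction_on with
  | _ n ih =>
    intro T _ _ hn hT hE
    haveI : Fact (Nat.Prime 2) := ⟨Nat.prime_two⟩
    by_cases hsub : Subsingleton T
    · intro a b c; exact Subsingleton.elim _ _
    haveI : Nontrivial T := not_subsingleton_iff_nontrivial.mp hsub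
    set Z := Subgroup.center T with hZ
    have hcent : ∀ a b c : T, ⁅⁅a, b⁆, c⁆ ∈ Z := by
      intro a b c
      have hlt : Nat.card (T ⧸ Z) < n := by
        rw [← hn, Z.card_eq_card_quotient_mul_card_subgroup]
        refine lt_mul_of_one_lt_right Nat.card_pos ?_
        exact Finite.one_lt_card_iff_nontrivial.mpr hT.center_nontrivial
      have h := ih _ hlt (T ⧸ Z) rfl (hT.to_quotient Z) (fun x g => by
        induction x using QuotientGroup.induction_on with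
        | H x =>
          induction g using QuotientGroup.induction_on with
          | H g => exact (hE x g).map (QuotientGroup.mk' Z)) a b c
      rw [← QuotientGroup.eq_one_iff]
      refine Eq.trans ?_ h
      exact (map_commutatorElement (QuotientGroup.mk' Z) _ _).trans
        (by rw [map_commutatorElement (QuotientGroup.mk' Z)]; rfl)
    have hzc : ∀ {z : T}, z ∈ Z → ∀ t, t * z = z * t := fun hz t => Subgroup.mem_center_iff.mp hz t
    -- linearity of the triple commutator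
    have lin3 : ∀ a b c d : T, ⁅⁅a, b⁆, c * d⁆ = ⁅⁅a, b⁆, c⁆ * ⁅⁅a, b⁆, d⁆ := by
      intro a b c d
      calc ⁅⁅a, b⁆, c * d⁆ = ⁅⁅a, b⁆, c⁆ * (c * ⁅⁅a, b⁆, d⁆ * c⁻¹) := by
            simp only [commutatorElement_def]; group
        _ = _ := by rw [hzc (hcent a b d) c]; group
    have inv3 : ∀ a b c : T, ⁅⁅a, b⁆, c⁻¹⁆ = ⁅⁅a, b⁆, c⁆⁻¹ := by
      intro a b c
      refine eq_inv_of_mul_eq_one_right ?_
      rw [← lin3, mul_inv_cancel, commutatorElement_one_right]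
    have c22 : ∀ a b c d : T, Commute ⁅a, b⁆ ⁅c, d⁆ := by
      intro a b c d
      refine commutatorElement_eq_one_iff_commute.mp ?_
      rw [show ⁅c, d⁆ = c * d * c⁻¹ * d⁻¹ from rfl, lin3, lin3, lin3, inv3, inv3]
      have h1 := hzc (hcent a b d) ⁅⁅a, b⁆, c⁆
      calc ⁅⁅a, b⁆, c⁆ * ⁅⁅a, b⁆, d⁆ * ⁅⁅a, b⁆, c⁆⁻¹ * ⁅⁅a, b⁆, d⁆⁻¹
          = ⁅⁅a, b⁆, d⁆ * ⁅⁅a, b⁆, c⁆ * ⁅⁅a, b⁆, c⁆⁻¹ * ⁅⁅a, b⁆, d⁆⁻¹ := by rw [h1]
        _ = 1 := by group
    have lin2 : ∀ a b c d : T, ⁅⁅a, b * c⁆, d⁆ = ⁅⁅a, b⁆, d⁆ * ⁅⁅a, c⁆, d⁆ := by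
      intro a b c d
      set z := ⁅⁅a, c⁆, b⁆⁻¹ with hz
      have hzZ : z ∈ Z := Z.inv_mem (hcent a c b)
      have e1 : ⁅a, b * c⁆ = ⁅a, b⁆ * ⁅a, c⁆ * z := by
        have e2 : ⁅a, b * c⁆ = ⁅a, b⁆ * (z * ⁅a, c⁆) := by
          rw [hz]; simp only [commutatorElement_def]; group
        rw [e2, ← hzc hzZ ⁅a, c⁆, mul_assoc]
      calc ⁅⁅a, b * c⁆, d⁆ = ⁅⁅a, b⁆ * ⁅a, c⁆, d⁆ := by
            rw [e1]
            set u := ⁅a, b⁆ * ⁅a, c⁆
            calc ⁅u * z, d⁆ = u * (z * d * z⁻¹) * u⁻¹ * d⁻¹ := by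
                  simp only [commutatorElement_def]; group
              _ = u * (d * z * z⁻¹) * u⁻¹ * d⁻¹ := by rw [hzc hzZ d]
              _ = ⁅u, d⁆ := by simp only [commutatorElement_def]; group
        _ = ⁅a, b⁆ * ⁅⁅a, c⁆, d⁆ * ⁅a, b⁆⁻¹ * ⁅⁅a, b⁆, d⁆ := by
            simp only [commutatorElement_def]; group
        _ = ⁅⁅a, b⁆, d⁆ * ⁅⁅a, c⁆, d⁆ := by
            rw [hzc (hcent a c d) ⁅a, b⁆, mul_inv_cancel_right, hzc (hcent a c d) ⁅⁅a, b⁆, d⁆]
    have engel : ∀ a b : T, ⁅⁅a, b⁆, b⁆ = 1 := by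
      intro a b
      rw [commutatorElement_eq_one_iff_commute,
        show ⁅a, b⁆ = a * b * a⁻¹ * b⁻¹ from rfl]
      exact ((hE b a).symm).mul_left (Commute.refl b).inv_left
    intro a b c
    -- antisymmetry in the last two places
    have anti : ∀ a b c : T, ⁅⁅a, c⁆, b⁆ = ⁅⁅a, b⁆, c⁆⁻¹ := by
      intro a b c
      refine eq_inv_of_mul_eq_one_right ?_
      have h := engel a (b * c)
      rw [lin2, lin3, lin3, engel, engel, one_mul, mul_one] at h
      exact h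
    have anti' : ∀ a b c : T, ⁅⁅b, a⁆, c⁆ = ⁅⁅a, b⁆, c⁆⁻¹ := by
      intro a b c
      rw [← commutatorElement_inv a b]
      calc ⁅⁅a, b⁆⁻¹, c⁆ = ⁅a, b⁆⁻¹ * ⁅⁅a, b⁆, c⁆⁻¹ * ⁅a, b⁆ := by
            simp only [commutatorElement_def]; group
        _ = ⁅⁅a, b⁆, c⁆⁻¹ := by rw [hzc (Z.inv_mem (hcent a b c)) ⁅a, b⁆⁻¹]; group
    -- conjugating `⁅a, b⁆` by `c` in two ways
    have jac : ⁅c, ⁅a, b⁆⁆ = ⁅a, ⁅c, b⁆⁆ * ⁅⁅c, a⁆, b⁆ := by
      have h1 : ⁅c, ⁅a, b⁆⁆ * ⁅a, b⁆ = ⁅⁅c, a⁆ * a, ⁅c, b⁆ * b⁆ := by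
        simp only [commutatorElement_def]; group
      have h2 : ∀ u v : T, ⁅u * a, v * b⁆ =
          u * (⁅a, v⁆ * (v * ⁅a, b⁆ * v⁻¹)) * u⁻¹ * (⁅u, v⁆ * (v * ⁅u, b⁆ * v⁻¹)) := by
        intro u v
        simp only [commutatorElement_def]; group
      rw [h2] at h1
      set u := ⁅c, a⁆ with hu
      set v := ⁅c, b⁆ with hv
      set g := ⁅a, b⁆ with hg
      have h3 : v * g * v⁻¹ = g := by rw [(c22 c b a b : Commute v g).eq, mul_inv_cancel_right]
      have h4 : ⁅u, v⁆ = 1 := commutatorElement_eq_one_iff_commute.mpr (c22 c a c b)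
      have h5 : v * ⁅u, b⁆ * v⁻¹ = ⁅u, b⁆ := by
        rw [(hzc (hcent c a b) v : v * ⁅u, b⁆ = ⁅u, b⁆ * v), mul_inv_cancel_right]
      have h6 : u * (⁅a, v⁆ * g) * u⁻¹ = ⁅a, v⁆ * g := by
        rw [((c22 c a a v).mul_right (c22 c a a b) : Commute u (⁅a, v⁆ * g)).eq,
          mul_inv_cancel_right]
      rw [h3, h4, h5, h6, one_mul] at h1
      have h7 : ⁅a, v⁆ * g * ⁅u, b⁆ = ⁅a, v⁆ * ⁅u, b⁆ * g := by
        rw [mul_assoc, hzc (hcent c a b) g, mul_assoc]
      rw [h7] at h1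
      exact mul_right_cancel h1
    set f := ⁅⁅a, b⁆, c⁆ with hf
    have e1 : ⁅c, ⁅a, b⁆⁆ = f⁻¹ := by rw [hf, commutatorElement_inv]
    have e2 : ⁅a, ⁅c, b⁆⁆ = f := by
      rw [← commutatorElement_inv ⁅c, b⁆ a, anti' b c a, inv_inv, anti b a c, anti' a b c, inv_inv]
    have e3 : ⁅⁅c, a⁆, b⁆ = f := by
      rw [anti' a c b, anti a b c, inv_inv]
    rw [e1, e2, e3] at jac
    have h3f : f ^ 3 = 1 := by
      calc f ^ 3 = f * (f * f) := pow_three f
        _ = 1 := by rw [← jac, mul_inv_cancel]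
    obtain ⟨k, hk⟩ := IsPGroup.iff_orderOf.mp hT f
    have h1 : orderOf f = 1 := Nat.eq_one_of_dvd_coprimes
      ((show Nat.Coprime 2 3 by norm_num).pow_left k) (dvd_of_eq hk)
      (orderOf_dvd_of_pow_eq_one h3f)
    exact orderOf_eq_one_iff.mp h1

/-- A finite 2-group with a fixed-point-free automorphism of order three has class at most two. -/
theorem commutator_mem_center {T : Type v} [Group T] [Finite T] (hT : IsPGroup 2 T) {ρ : MulAut T}
    (h3 : ∀ y, ρ (ρ (ρ y)) = y) (hfp : ∀ y, ρ y = y → y = 1) (a b : T) :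
    ⁅a, b⁆ ∈ Subgroup.center T :=
  Subgroup.mem_center_iff.mpr fun c =>
    (commutatorElement_eq_one_iff_commute.mp
      (class_two_of_commute_conj _ T rfl hT (commute_conj h3 hfp) a b c)).eq.symm

end CfsgLib.TwoFusion.RankTwo
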